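import Cfsg.Agent.Lib.H9.HN.TCQ19.Data
import Cfsg.Agent.Lib.H35.TC
set_option autoImplicit false
set_option maxRecDepth 100000
set_option linter.all false
namespace H9.HN.TCQ19
open H35.TC
/-- letters -/
inductive Lt | x | xi | y | yi | z | t | ti
  deriving DecidableEq
/-- inverse letter -/
def inv : Lt → Lt
  | .x => .xi
  | .xi => .x
  | .y => .yi
  | .yi => .y
  | .z => .z
  | .t => .ti
  | .ti => .t
/-- table functions -/
noncomputable def T : Lt → ℕ → ℕ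
  | .x => T_x
  | .xi => T_xi
  | .y => T_y
  | .yi => T_yi
  | .z => T_z
  | .t => T_t
  | .ti => T_ti
/-- decoding of letter codes -/
def lt : ℕ → Lt
  | 0 => .x
  | 1 => .xi
  | 2 => .y
  | 3 => .yi
  | 4 => .z
  | 5 => .t
  | _ => .ti
/-- Coxeter matrix (0: no relation) -/
def mm : Lt → Lt → ℕ
  | .z, .z => 1
  | _, _ => 0
/-- extra relators `w ^ n` -/
def extra : List (List Lt × ℕ) := [
  ([.z, .x], 2),
  ([.ti, .yi, .t, .y], 1),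
  ([.x], 4),
  ([.t], 5),
  ([.xi, .t, .x, .t, .t], 1),
  ([.y], 6),
  ([.x, .x, .y, .x, .x, .yi], 1),
  ([.z, .t], 3),
  ([.x, .x, .t], 2),
  ([.xi, .t, .yi, .z, .y, .y], 1),
  ([.xi, .yi, .x, .y], 3),
  ([.x, .y], 8),
  ([.z, .y, .xi, .yi, .yi, .xi, .yi, .xi, .yi, .z, .y, .x, .y, .x, .y, .y, .x, .yi, .xi, .xi], 1),
  ([.xi, .y, .y, .x, .y, .y, .y], 3),
  ([.x, .y, .x, .y, .y, .y], 4),
  ([.z, .yi, .xi, .yi, .xi, .yi, .yi, .yi, .z, .y, .y, .y, .x, .y, .x, .y, .x, .yi, .xi, .yi, .xi, .yi, .yi, .yi, .z, .y, .y, .y, .x, .y, .x, .y, .x, .yi, .xi, .yi, .xi, .yi, .yi, .yi, .z, .y, .y, .y, .x, .y, .x, .y, .x], 1),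
  ([.x, .xi], 1),
  ([.xi, .x], 1),
  ([.y, .yi], 1),
  ([.yi, .y], 1),
  ([.t, .ti], 1),
  ([.ti, .t], 1)]
/-- relators -/
def rels : List (List Lt) := mkRels [(.z, .z)] mm extra
/-- subgroup words -/
def subs : List (List Lt) := [
  ]
noncomputable def dp_x_0 (j u : ℕ) : Bool :=
  Bool.rec (motive := fun _ => Bool) (lS MG [T_z, T_x, T_z] M (Nat.sub (T_x u) (Nat.mod (T_x u) M)) (nat_lit 40) (Nat.mod (T_x u) M) u) (lF [T_x, T_yi, T_x, T_x, T_y] M (Nat.sub (T_x u) (Nat.mod (T_x u) M)) (Nat.mod (T_x u) M) u) (Nat.ble (nat_lit 7) j)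
noncomputable def dp_x_1 (j u : ℕ) : Bool :=
  Bool.rec (motive := fun _ => Bool) (lF [T_t, T_t, T_xi, T_t] M (Nat.sub (T_x u) (Nat.mod (T_x u) M)) (Nat.mod (T_x u) M) u) (lF [T_yi, T_x, T_x, T_y, T_x] M (Nat.sub (T_x u) (Nat.mod (T_x u) M)) (Nat.mod (T_x u) M) u) (Nat.ble (nat_lit 9) j)
noncomputable def dp_x_2 (j u : ℕ) : Bool :=
  Bool.rec (motive := fun _ => Bool) (lF [T_y, T_x, T_x, T_yi, T_x] M (Nat.sub (T_x u) (Nat.mod (T_x u) M)) (Nat.mod (T_x u) M) u) (lF [T_yi, T_yi, T_z, T_y, T_ti] M (Nat.sub (T_x u) (Nat.mod (T_x u) M)) (Nat.mod (T_x u) M) u) (Nat.ble (nat_lit 11) j)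
noncomputable def disp_x (j u : ℕ) : Bool :=
  Bool.rec (motive := fun _ => Bool) (Bool.rec (motive := fun _ => Bool) (lDef P (nat_lit 0) (Nat.mod (T_x u) M) u) (lDef P (nat_lit 1) u (Nat.mod (T_x u) M)) (Nat.ble (nat_lit 1) j)) (Bool.rec (motive := fun _ => Bool) (Bool.rec (motive := fun _ => Bool) (lF1 T_xi M (Nat.sub (T_x u) (Nat.mod (T_x u) M)) (Nat.mod (T_x u) M) u) (Bool.rec (motive := fun _ => Bool) (lF3 T_x T_x T_x M (Nat.sub (T_x u) (Nat.mod (T_x u) M)) (Nat.mod (T_x u) M) u) (lF3 T_z T_x T_z M (Nat.sub (T_x u) (Nat.mod (T_x u) M)) (Nat.mod (T_x u) M) u) (Nat.ble (nat_lit 4) j)) (Nat.ble (nat_lit 3) j)) (Bool.rec (motive := fun _ => Bool) (Bool.rec (motive := fun _ => Bool) (lS MG [T_xi] M (Nat.sub (T_x u) (Nat.mod (T_x u) M)) (nat_lit 40) (Nat.mod (T_x u) M) u) (dp_x_0 j u) (Nat.ble (nat_lit 6) j)) (Bool.rec (motive := fun _ => Bool) (dp_x_1 j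 u) (dp_x_2 j u) (Nat.ble (nat_lit 10) j)) (Nat.ble (nat_lit 8) j)) (Nat.ble (nat_lit 5) j)) (Nat.ble (nat_lit 2) j)
noncomputable def chk_x (j u : ℕ) : Bool :=
  Bool.rec (motive := fun _ => Bool) (disp_x j u) (Nat.ble (Nat.succ (MG u)) A) (Nat.ble A (T_x u))
noncomputable def dp_xi_0 (j u : ℕ) : Bool :=
  Bool.rec (motive := fun _ => Bool) (lS MG [T_x] M (Nat.sub (T_xi u) (Nat.mod (T_xi u) M)) (nat_lit 40) (Nat.mod (T_xi u) M) u) (lF [T_t, T_x, T_t, T_t] M (Nat.sub (T_xi u) (Nat.mod (T_xi u) M)) (Nat.mod (T_xi u) M) u) (Nat.ble (nat_lit 6) j)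
noncomputable def dp_xi_1 (j u : ℕ) : Bool :=
  Bool.rec (motive := fun _ => Bool) (lF3 T_z T_xi T_z M (Nat.sub (T_xi u) (Nat.mod (T_xi u) M)) (Nat.mod (T_xi u) M) u) (dp_xi_0 j u) (Nat.ble (nat_lit 5) j)
noncomputable def dp_xi_2 (j u : ℕ) : Bool :=
  Bool.rec (motive := fun _ => Bool) (lF [T_xi, T_y, T_xi, T_xi, T_yi] M (Nat.sub (T_xi u) (Nat.mod (T_xi u) M)) (Nat.mod (T_xi u) M) u) (lF3 T_xi T_xi T_xi M (Nat.sub (T_xi u) (Nat.mod (T_xi u) M)) (Nat.mod (T_xi u) M) u) (Nat.ble (nat_lit 9) j)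
noncomputable def dp_xi_3 (j u : ℕ) : Bool :=
  Bool.rec (motive := fun _ => Bool) (lF [T_xi, T_yi, T_xi, T_xi, T_y] M (Nat.sub (T_xi u) (Nat.mod (T_xi u) M)) (Nat.mod (T_xi u) M) u) (dp_xi_2 j u) (Nat.ble (nat_lit 8) j)
noncomputable def disp_xi (j u : ℕ) : Bool :=
  Bool.rec (motive := fun _ => Bool) (Bool.rec (motive := fun _ => Bool) (lDef P (nat_lit 0) u (Nat.mod (T_xi u) M)) (lF1 T_x M (Nat.sub (T_xi u) (Nat.mod (T_xi u) M)) (Nat.mod (T_xi u) M) u) (Nat.ble (nat_lit 1) j)) (Bool.rec (motive := fun _ => Bool) (Bool.rec (motive := fun _ => Bool) (lDef P (nat_lit 1) (Nat.mod (T_xi u) M) u) (lF [T_ti, T_x, T_ti, T_ti] M (Nat.sub (T_xi u) (Nat.mod (T_xi u) M)) (Nat.mod (T_xi u) M) u) (Nat.ble (nat_lit 3) j)) (Bool.rec (motive := fun _ => Bool) (dp_xi_1 j u) (dp_xi_3 j u) (Nat.ble (nat_lit 7) j)) (Nat.ble (nat_lit 4) j)) (Nat.ble (nat_lit 2) j)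
noncomputable def chk_xi (j u : ℕ) : Bool :=
  Bool.rec (motive := fun _ => Bool) (disp_xi j u) (Nat.ble (Nat.succ (MG u)) A) (Nat.ble A (T_xi u))
noncomputable def disp_y (j u : ℕ) : Bool :=
  Bool.rec (motive := fun _ => Bool) (Bool.rec (motive := fun _ => Bool) (lDef P (nat_lit 2) (Nat.mod (T_y u) M) u) (lDef P (nat_lit 3) u (Nat.mod (T_y u) M)) (Nat.ble (nat_lit 1) j)) (Bool.rec (motive := fun _ => Bool) (lF1 T_yi M (Nat.sub (T_y u) (Nat.mod (T_y u) M)) (Nat.mod (T_y u) M) u) (Bool.rec (motive := fun _ => Bool) (lF3 T_ti T_yi T_t M (Nat.sub (T_y u) (Nat.mod (T_y u) M)) (Nat.mod (T_y u) M) u) (lF [T_y, T_xi, T_t, T_yi, T_z] M (Nat.sub (T_y u) (Nat.mod (T_y u) M)) (Nat.mod (T_y u) M) u) (Nat.ble (nat_lit 4) j)) (Nat.ble (nat_lit 3) j)) (Nat.ble (nat_lit 2) j)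
noncomputable def chk_y (j u : ℕ) : Bool :=
  Bool.rec (motive := fun _ => Bool) (disp_y j u) (Nat.ble (Nat.succ (MG u)) A) (Nat.ble A (T_y u))
noncomputable def dp_yi_0 (j u : ℕ) : Bool :=
  Bool.rec (motive := fun _ => Bool) (lF [T_yi, T_z, T_y, T_ti, T_x] M (Nat.sub (T_yi u) (Nat.mod (T_yi u) M)) (Nat.mod (T_yi u) M) u) (lF3 T_ti T_y T_t M (Nat.sub (T_yi u) (Nat.mod (T_yi u) M)) (Nat.mod (T_yi u) M) u) (Nat.ble (nat_lit 5) j)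
noncomputable def dp_yi_1 (j u : ℕ) : Bool :=
  Bool.rec (motive := fun _ => Bool) (lF [T_z, T_y, T_ti, T_x, T_yi] M (Nat.sub (T_yi u) (Nat.mod (T_yi u) M)) (Nat.mod (T_yi u) M) u) (lF [T_yi, T_yi, T_yi, T_yi, T_yi] M (Nat.sub (T_yi u) (Nat.mod (T_yi u) M)) (Nat.mod (T_yi u) M) u) (Nat.ble (nat_lit 8) j)
noncomputable def disp_yi (j u : ℕ) : Bool :=
  Bool.rec (motive := fun _ => Bool) (Bool.rec (motive := fun _ => Bool) (lDef P (nat_lit 3) (Nat.mod (T_yi u) M) u) (lDef P (nat_lit 2) u (Nat.mod (T_yi u) M)) (Nat.ble (nat_lit 1) j)) (Bool.rec (motive := fun _ => Bool) (Bool.rec (motive := fun _ => Bool) (lF1 T_y M (Nat.sub (T_yi u) (Nat.mod (T_yi u) M)) (Nat.mod (T_yi u) M) u) (lF [T_x, T_x, T_y, T_x, T_x] M (Nat.sub (T_yi u) (Nat.mod (T_yi u) M)) (Nat.mod (T_yi u) M) u) (Nat.ble (nat_lit 3) j)) (Bool.rec (motive := fun _ => Bool) (dp_yi_0 j u) (Bool.rec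 (motive := fun _ => Bool) (lF3 T_t T_y T_ti M (Nat.sub (T_yi u) (Nat.mod (T_yi u) M)) (Nat.mod (T_yi u) M) u) (dp_yi_1 j u) (Nat.ble (nat_lit 7) j)) (Nat.ble (nat_lit 6) j)) (Nat.ble (nat_lit 4) j)) (Nat.ble (nat_lit 2) j)
noncomputable def chk_yi (j u : ℕ) : Bool :=
  Bool.rec (motive := fun _ => Bool) (disp_yi j u) (Nat.ble (Nat.succ (MG u)) A) (Nat.ble A (T_yi u))
noncomputable def dp_z_0 (j u : ℕ) : Bool :=
  Bool.rec (motive := fun _ => Bool) (lF1 T_z M (Nat.sub (T_z u) (Nat.mod (T_z u) M)) (Nat.mod (T_z u) M) u) (lF [T_y, T_ti, T_x, T_yi, T_yi] M (Nat.sub (T_z u) (Nat.mod (T_z u) M)) (Nat.mod (T_z u) M) u) (Nat.ble (nat_lit 3) j)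
noncomputable def disp_z (j u : ℕ) : Bool :=
  Bool.rec (motive := fun _ => Bool) (lDef P (nat_lit 4) (Nat.mod (T_z u) M) u) (Bool.rec (motive := fun _ => Bool) (lDef P (nat_lit 4) u (Nat.mod (T_z u) M)) (dp_z_0 j u) (Nat.ble (nat_lit 2) j)) (Nat.ble (nat_lit 1) j)
noncomputable def chk_z (j u : ℕ) : Bool :=
  Bool.rec (motive := fun _ => Bool) (disp_z j u) (Nat.ble (Nat.succ (MG u)) A) (Nat.ble A (T_z u))
noncomputable def dp_t_0 (j u : ℕ) : Bool :=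
  Bool.rec (motive := fun _ => Bool) (lS MG [T_x, T_t, T_t, T_xi] M (Nat.sub (T_t u) (Nat.mod (T_t u) M)) (nat_lit 40) (Nat.mod (T_t u) M) u) (lS MG [T_y, T_ti, T_yi] M (Nat.sub (T_t u) (Nat.mod (T_t u) M)) (nat_lit 40) (Nat.mod (T_t u) M) u) (Nat.ble (nat_lit 5) j)
noncomputable def dp_t_1 (j u : ℕ) : Bool :=
  Bool.rec (motive := fun _ => Bool) (lF [T_t, T_xi, T_t, T_x] M (Nat.sub (T_t u) (Nat.mod (T_t u) M)) (Nat.mod (T_t u) M) u) (lF [T_xi, T_t, T_x, T_t] M (Nat.sub (T_t u) (Nat.mod (T_t u) M)) (Nat.mod (T_t u) M) u) (Nat.ble (nat_lit 7) j)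
noncomputable def disp_t (j u : ℕ) : Bool :=
  Bool.rec (motive := fun _ => Bool) (lDef P (nat_lit 5) (Nat.mod (T_t u) M) u) (Bool.rec (motive := fun _ => Bool) (lDef P (nat_lit 6) u (Nat.mod (T_t u) M)) (Bool.rec (motive := fun _ => Bool) (Bool.rec (motive := fun _ => Bool) (lF1 T_ti M (Nat.sub (T_t u) (Nat.mod (T_t u) M)) (Nat.mod (T_t u) M) u) (lF3 T_yi T_ti T_y M (Nat.sub (T_t u) (Nat.mod (T_t u) M)) (Nat.mod (T_t u) M) u) (Nat.ble (nat_lit 3) j)) (Bool.rec (motive := fun _ => Bool) (dp_t_0 j u) (dp_t_1 j u) (Nat.ble (nat_lit 6) j)) (Nat.ble (nat_lit 4) j)) (Nat.ble (nat_lit 2) j)) (Nat.ble (nat_lit 1) j)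
noncomputable def chk_t (j u : ℕ) : Bool :=
  Bool.rec (motive := fun _ => Bool) (disp_t j u) (Nat.ble (Nat.succ (MG u)) A) (Nat.ble A (T_t u))
noncomputable def dp_ti_0 (j u : ℕ) : Bool :=
  Bool.rec (motive := fun _ => Bool) (lS MG [T_yi, T_t, T_y] M (Nat.sub (T_ti u) (Nat.mod (T_ti u) M)) (nat_lit 40) (Nat.mod (T_ti u) M) u) (lF [T_x, T_ti, T_ti, T_xi] M (Nat.sub (T_ti u) (Nat.mod (T_ti u) M)) (Nat.mod (T_ti u) M) u) (Nat.ble (nat_lit 5) j)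
noncomputable def dp_ti_1 (j u : ℕ) : Bool :=
  Bool.rec (motive := fun _ => Bool) (lF [T_ti, T_xi, T_ti, T_x] M (Nat.sub (T_ti u) (Nat.mod (T_ti u) M)) (Nat.mod (T_ti u) M) u) (lS MG [T_t] M (Nat.sub (T_ti u) (Nat.mod (T_ti u) M)) (nat_lit 40) (Nat.mod (T_ti u) M) u) (Nat.ble (nat_lit 7) j)
noncomputable def disp_ti (j u : ℕ) : Bool :=
  Bool.rec (motive := fun _ => Bool) (lDef P (nat_lit 5) u (Nat.mod (T_ti u) M)) (Bool.rec (motive := fun _ => Bool) (lDef P (nat_lit 6) (Nat.mod (T_ti u) M) u) (Bool.rec (motive := fun _ => Bool) (Bool.rec (motive := fun _ => Bool) (lF1 T_t M (Nat.sub (T_ti u) (Nat.mod (T_ti u) M)) (Nat.mod (T_ti u) M) u) (lF [T_ti, T_ti, T_ti, T_ti] M (Nat.sub (T_ti u) (Nat.mod (T_ti u) M)) (Nat.mod (T_ti u) M) u) (Nat.ble (nat_lit 3) j)) (Bool.rec (motive := fun _ => Bool) (dp_ti_0 j u) (dp_ti_1 j u) (Nat.ble (nat_lit 6) j)) (Nat.ble (nat_lit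 4) j)) (Nat.ble (nat_lit 2) j)) (Nat.ble (nat_lit 1) j)
noncomputable def chk_ti (j u : ℕ) : Bool :=
  Bool.rec (motive := fun _ => Bool) (disp_ti j u) (Nat.ble (Nat.succ (MG u)) A) (Nat.ble A (T_ti u))
noncomputable def dM_0 (j z1 z2 u : ℕ) : Bool :=
  Bool.rec (motive := fun _ => Bool) (mCo MG T_x M (Nat.sub (MG u) (Nat.mod (MG u) M)) (nat_lit 40) z1 z2 u (Nat.mod (MG u) M)) (Bool.rec (motive := fun _ => Bool) (mCo MG T_y M (Nat.sub (MG u) (Nat.mod (MG u) M)) (nat_lit 40) z1 z2 u (Nat.mod (MG u) M)) (mCo MG T_xi M (Nat.sub (MG u) (Nat.mod (MG u) M)) (nat_lit 40) z1 z2 u (Nat.mod (MG u) M)) (Nat.ble (nat_lit 2) j)) (Nat.ble (nat_lit 1) j)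
noncomputable def dM_1 (j z1 z2 u : ℕ) : Bool :=
  Bool.rec (motive := fun _ => Bool) (Bool.rec (motive := fun _ => Bool) (mCo MG T_t M (Nat.sub (MG u) (Nat.mod (MG u) M)) (nat_lit 40) z1 z2 u (Nat.mod (MG u) M)) (Bool.rec (motive := fun _ => Bool) (mCo MG T_ti M (Nat.sub (MG u) (Nat.mod (MG u) M)) (nat_lit 40) z1 z2 u (Nat.mod (MG u) M)) (mCo MG T_yi M (Nat.sub (MG u) (Nat.mod (MG u) M)) (nat_lit 40) z1 z2 u (Nat.mod (MG u) M)) (Nat.ble (nat_lit 5) j)) (Nat.ble (nat_lit 4) j)) (Bool.rec (motive := fun _ => Bool) (Bool.rec (motive := fun _ => Bool) (mCo MG T_z M (Nat.sub (MG u) (Nat.mod (MG u) M)) (nat_lit 40) z1 z2 u (Nat.mod (MG u) M)) (mRel MG [T_t, T_z, T_t, T_z, T_t, T_z] [] M (Nat.sub (MG u) (Nat.mod (MG u) M)) (nat_lit 40) z1 u (Nat.mod (MG u) M)) (Nat.ble (nat_lit 7) j)) (Bool.rec (motive := fun _ => Bool) (Bool.rec (motive := fun _ => Bool) (mRel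 MG [T_x, T_y, T_y, T_y, T_xi, T_y, T_y, T_x, T_y, T_y, T_y, T_xi, T_y, T_y, T_x, T_y, T_y, T_y, T_xi, T_y, T_y] [] M (Nat.sub (MG u) (Nat.mod (MG u) M)) (nat_lit 40) z1 u (Nat.mod (MG u) M)) (Bool.rec (motive := fun _ => Bool) (mRel MG [T_ti, T_z, T_ti, T_z, T_ti, T_z] [] M (Nat.sub (MG u) (Nat.mod (MG u) M)) (nat_lit 40) z1 u (Nat.mod (MG u) M)) (mRel MG [T_t, T_yi, T_z] [T_x, T_yi, T_yi] M (Nat.sub (MG u) (Nat.mod (MG u) M)) (nat_lit 40) z1 u (Nat.mod (MG u) M)) (Nat.ble (nat_lit 10) j)) (Nat.ble (nat_lit 9) j)) (Bool.rec (motive := fun _ => Bool) (mRel MG [T_t, T_y, T_ti] [T_y] M (Nat.sub (MG u) (Nat.mod (MG u) M)) (nat_lit 40) z1 u (Nat.mod (MG u) M)) (Bool.rec (motive := fun _ => Bool) (mRel MG [T_x, T_ti, T_ti] [T_t, T_x] M (Nat.sub (MG u) (Nat.mod (MG u) M)) (nat_lit 40) z1 u (Nat.mod (MG u) M)) (mRel MG [T_y, T_ti] [T_z, T_y, T_y, T_xi] M (Nat.sub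 (MG u) (Nat.mod (MG u) M)) (nat_lit 40) z1 u (Nat.mod (MG u) M)) (Nat.ble (nat_lit 13) j)) (Nat.ble (nat_lit 12) j)) (Nat.ble (nat_lit 11) j)) (Nat.ble (nat_lit 8) j)) (Nat.ble (nat_lit 6) j)
noncomputable def dM_2 (j z1 z2 u : ℕ) : Bool :=
  Bool.rec (motive := fun _ => Bool) (dM_0 j z1 z2 u) (dM_1 j z1 z2 u) (Nat.ble (nat_lit 3) j)
noncomputable def chkM (u : ℕ) : Bool :=
  Bool.rec (motive := fun _ => Bool) (band (Nat.ble (Nat.succ (Nat.mod (MG u) M)) u) (dM_2 (Nat.land (MR u) (nat_lit 15)) (Nat.land (Nat.shiftRight (MR u) (nat_lit 4)) (nat_lit 63)) (Nat.shiftRight (MR u) (nat_lit 10)) u)) true (Nat.ble A (MG u))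
noncomputable def chkN (u : ℕ) : Bool :=
  band (chk_x (Nat.land (Nat.shiftRight (RS u) (nat_lit 0)) (nat_lit 15)) u) (band (chk_xi (Nat.land (Nat.shiftRight (RS u) (nat_lit 4)) (nat_lit 15)) u) (band (chk_y (Nat.land (Nat.shiftRight (RS u) (nat_lit 8)) (nat_lit 15)) u) (band (chk_yi (Nat.land (Nat.shiftRight (RS u) (nat_lit 12)) (nat_lit 15)) u) (band (chk_z (Nat.land (Nat.shiftRight (RS u) (nat_lit 16)) (nat_lit 15)) u) (band (chk_t (Nat.land (Nat.shiftRight (RS u) (nat_lit 20)) (nat_lit 15)) u) (band (chk_ti (Nat.land (Nat.shiftRight (RS u) (nat_lit 24)) (nat_lit 15)) u) (chkM u)))))))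
noncomputable def chkP (u : ℕ) : Bool := Bool.rec (motive := fun _ => Bool) (chkN u) true (Nat.ble M u)
noncomputable def liveP (u : ℕ) : Bool := Bool.rec (motive := fun _ => Bool) (Nat.ble A (MG u)) false (Nat.ble M u)
end H9.HN.TCQ19
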