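import Mathlib.Init
set_option autoImplicit false
set_option maxRecDepth 100000
set_option linter.all false
namespace H9.HN.TCQ19
noncomputable def T_x_0 (i : Nat) : Nat := Nat.land (Nat.shiftRight (nat_lit 0xdbffffffff80a0800fc7383cffe117fffff00e47bfffffffffffffffffffffc75935ffec37ff8031d5ffffffff1e1fffffad706c0ac150330440803901902600004001) (Nat.mul (nat_lit 11) (Nat.land i (nat_lit 2047)))) (nat_lit 2047)
noncomputable def T_x (i : Nat) : Nat := Nat.rec (motive := fun _ => Nat) (T_x_0 (nat_lit 0)) (fun m _ => T_x_0 (Nat.succ m)) i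
noncomputable def T_xi_0 (i : Nat) : Nat := Nat.land (Nat.shiftRight (nat_lit 0x7ffffffffff8a2014024a47ff15829bfffffffe01c21806fffffe89ffffffffc027ffffffffff888007fffff83611a233ff8e51140b3ff801047ffc36fff0281a800002) (Nat.mul (nat_lit 11) (Nat.land i (nat_lit 2047)))) (nat_lit 2047)
noncomputable def T_xi (i : Nat) : Nat := Nat.rec (motive := fun _ => Nat) (T_xi_0 (nat_lit 0)) (fun m _ => T_xi_0 (Nat.succ m)) i
noncomputable def T_y_0 (i : Nat) : Nat := Nat.land (Nat.shiftRight (nat_lit 0x7ff07bffc057ffffffffffb5b011ffffffffffffffffffffffffc0299706e8bffffffffffffffa0c4dfffffffff00475bfffffffe007ff8260f5ffc0e00002a03804803) (Nat.mul (nat_lit 11) (Nat.land i (nat_lit 2047)))) (nat_lit 2047)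
noncomputable def T_y (i : Nat) : Nat := Nat.rec (motive := fun _ => Nat) (T_y_0 (nat_lit 0)) (fun m _ => T_y_0 (Nat.succ m)) i
noncomputable def T_yi_0 (i : Nat) : Nat := Nat.land (Nat.shiftRight (nat_lit 0x7ffffffffff980fffffffffffffe023fffff45dfffffffffffffccb005ffece3ff83806fffc01a66fffffffffff2e600bff891ffe0b400827ffe1f40efff00003c05004) (Nat.mul (nat_lit 11) (Nat.land i (nat_lit 2047)))) (nat_lit 2047)
noncomputable def T_yi (i : Nat) : Nat := Nat.rec (motive := fun _ => Nat) (T_yi_0 (nat_lit 0)) (fun m _ => T_yi_0 (Nat.succ m)) i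
noncomputable def T_z_0 (i : Nat) : Nat := Nat.land (Nat.shiftRight (nat_lit 0x7ffffe0283efffffffffff808ffffffff807ffffffffffffffffffffff180013fffffffe00ffffffffffffff802fffffffffff0020bbff828049ffc0001a02c04005805) (Nat.mul (nat_lit 11) (Nat.land i (nat_lit 2047)))) (nat_lit 2047)
noncomputable def T_z (i : Nat) : Nat := Nat.rec (motive := fun _ => Nat) (T_z_0 (nat_lit 0)) (fun m _ => T_z_0 (Nat.succ m)) i
noncomputable def T_t_0 (i : Nat) : Nat := Nat.land (Nat.shiftRight (nat_lit 0xa39bfffffffffffffffffffffe6d003fff14a3904383e00bffde07ffffea5fff803fffffffffffffe00bffffffffffc00fff8820bfff8290000840f01b02e04406006) (Nat.mul (nat_lit 11) (Nat.land i (nat_lit 2047)))) (nat_lit 2047)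
noncomputable def T_t (i : Nat) : Nat := Nat.rec (motive := fun _ => Nat) (T_t_0 (nat_lit 0)) (fun m _ => T_t_0 (Nat.succ m)) i
noncomputable def T_ti_0 (i : Nat) : Nat := Nat.land (Nat.shiftRight (nat_lit 0x7ff015fffffffffffffc047ffffec14297ffffe0f4030b5ffe017fffff009ffffffff007fffffa19ffe214017ffffee0041001ffe0c3fffff04a0000ffff03004806807) (Nat.mul (nat_lit 11) (Nat.land i (nat_lit 2047)))) (nat_lit 2047)
noncomputable def T_ti (i : Nat) : Nat := Nat.rec (motive := fun _ => Nat) (T_ti_0 (nat_lit 0)) (fun m _ => T_ti_0 (Nat.succ m)) i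
noncomputable def P_0 (i : Nat) : Nat := Nat.land (Nat.shiftRight (nat_lit 0xa6a5a4a3a1a090858483827674717065605655535245444036353432313026252423221615141312100605040302010000) (Nat.mul (nat_lit 8) (Nat.land i (nat_lit 4095)))) (nat_lit 255)
noncomputable def P (i : Nat) : Nat := Nat.rec (motive := fun _ => Nat) (P_0 (nat_lit 0)) (fun m _ => P_0 (Nat.succ m)) i
noncomputable def MG_0 (i : Nat) : Nat := Nat.land (Nat.shiftRight (nat_lit 0x2b84c1511642d421b64573c989cd3958b315624a255aae07b302a1d4395c7332b52b15c53fa822875dcc49a1ccba6b4d188aaf8d165adf49d5bec4202d2ebe13eedf7ff) (Nat.mul (nat_lit 11) (Nat.land i (nat_lit 2047)))) (nat_lit 2047)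
noncomputable def MG (i : Nat) : Nat := Nat.rec (motive := fun _ => Nat) (MG_0 (nat_lit 0)) (fun m _ => MG_0 (Nat.succ m)) i
noncomputable def RS_0 (i : Nat) : Nat := Nat.land (Nat.shiftRight (nat_lit 0x10000b0700300001000000301000003091000000a0000009000001800102040000180730107731000000010000020300162000030200060360000001000000000000030815000012000020300051740000000020106005000500000100060001000200231100002025100000000000000100400004112400121021000000002035041001410001200001000000000311002200002000101001200001001001020100001110000001000020) (Nat.mul (nat_lit 28) (Nat.land i (nat_lit 1023)))) (nat_lit 268435455)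
noncomputable def RS (i : Nat) : Nat := Nat.rec (motive := fun _ => Nat) (RS_0 (nat_lit 0)) (fun m _ => RS_0 (Nat.succ m)) i
noncomputable def MR_0 (i : Nat) : Nat := Nat.land (Nat.shiftRight (nat_lit 0x2944035a45814a2a9420618e64826004b2290a5204109807600e54bc5911062303b657cc02a8051d5ac0a0400d29401b0636986d0d2f41b0008484919480084a10843022941002e310062084b00984085000480370140014000c0000) (Nat.mul (nat_lit 15) (Nat.land i (nat_lit 2047)))) (nat_lit 32767)
noncomputable def MR (i : Nat) : Nat := Nat.rec (motive := fun _ => Nat) (MR_0 (nat_lit 0)) (fun m _ => MR_0 (Nat.succ m)) i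
/-- number of nodes -/
abbrev M : Nat := 49
/-- absent threshold -/
abbrev A : Nat := 2047
end H9.HN.TCQ19
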