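import Cfsg.Agent.Lib.H9.HN.TCQ19.Chk
set_option Elab.async false
set_option autoImplicit false
set_option maxRecDepth 100000
set_option linter.all false
namespace H9.HN.TCQ19
open H35.TC
theorem l_0 : cntB liveP 15 0 = 1 := by
  have h : Nat.beq (cntB liveP 15 0) 1 = true := by decide +kernel
  exact eqOfBeq h
end H9.HN.TCQ19
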